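import Cfsg.Agent.Lib.SporPres.JankoThree.S6156Tab
import Cfsg.Agent.Lib.Coset.Build

/-! # A group of permutations of 6156 points on four involutions -/

set_option autoImplicit false

namespace Cfsg.Agent.Lib.SporPres.JankoThree

open Cfsg.Agent.Lib.Coset

/-- Relators of the four involutions. -/
def base : List (List ℕ) := [] :: [[1,3,1,3,1,3,1,3,1,3],
  [2,3,2,3,2,3],
  [0,2,0,2,0,2,0,2],
  [0,1,0,1,0,1,0,1,0,1,0,1],
  [1,2,1,2],
  [0,3,0,3],
  [0,0],
  [0,2,0,3,2,0,3,2,3],
  [0,1,0,1,3,1,0,1,0,1,3,1],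
  [3,1,2,3,1,2,3,2,1,3,2,1,3,1,2],
  [3,1,3,0,1,3,1,0,1,3,1,3,0,1,0],
  [3,1,0,2,0,1,0,2,0,1,0,2,0,1,0,2,0,2,1,3,2,0,2],
  [3,1,0,2,0,1,3,1,0,2,0,1,3,1,0,2,0,1,3,1,0,1,2,0,1],
  [3,1,0,2,3,1,0,1,2,3,1,0,2,1,3,1,0,2,1,3,1,0,2,0,1,0,1],
  [2,0,1,0,2,0,1,0,2,0,1,0,2,0,1,0,2,0,1,0],
  [2,0,1,0,1,0,2,0,1,0,1,0,2,0,1,0,1,0,2,0,1,0,1,0,2,0,1,0,1,0,1]]

/-- The table. -/
abbrev tab : Tab := S6156.tab

theorem size_eq : tab.size = 6156 := rfl

theorem good : tab.Good :=
  Tab.good_of_invOK (B := 1100) (fun k hk => by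
    have hk' : k < 6 := by have := size_eq; omega
    interval_cases k <;> decide +kernel) (by norm_num)

theorem relators : ∀ i < tab.size, ∀ w ∈ base, tab.app w i = i :=
  Tab.relOK_spec (B := 342) (by norm_num) fun k hk => by
    have hk' : k < 18 := by have := size_eq; omega
    interval_cases k <;> decide +kernel

theorem base_lt : (base.all fun w => w.all fun g => decide (g < tab.gens)) = true := by decide +kernel

/-- The group. -/
abbrev grp : Subgroup (Equiv.Perm (Fin tab.size)) :=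
  Subgroup.closure (tab.perm good '' Set.Iio 4)

/-- The generators. -/
noncomputable def φ (k : ℕ) : grp :=
  if h : k < 4 then ⟨tab.perm good k, Subgroup.subset_closure ⟨k, h, rfl⟩⟩ else 1

theorem coe_φ {k : ℕ} (hk : k < 4) : ((φ k : grp) : Equiv.Perm (Fin tab.size)) = tab.perm good k := by
  rw [φ, dif_pos hk]

theorem φ_inv (k : ℕ) : φ k * φ k = 1 := by
  by_cases h : k < 4
  · refine Subtype.ext ?_
    rw [Subgroup.coe_mul, coe_φ h]
    exact Tab.perm_mul_self good k
  · rw [φ, dif_neg h, one_mul]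

/-- The inclusion. -/
noncomputable def act : grp →* Equiv.Perm (Fin tab.size) := grp.subtype

theorem act_φ : ∀ g < tab.gens, act (φ g) = tab.perm good g := fun _ hg => coe_φ hg

theorem act_injective : Function.Injective act := Subtype.val_injective

theorem base_eq_one : ∀ w ∈ base, ev φ w = 1 := fun w hw => by
  have hlt : ∀ g ∈ w, g < tab.gens := fun g hg =>
    decide_eq_true_eq.mp (List.all_eq_true.1 (List.all_eq_true.1 base_lt w hw) g hg)
  exact ev_eq_one_of_fix act_φ act_injective hlt fun i hi => relators i hi w hw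

theorem gen : Subgroup.closure (φ '' Set.Iio tab.gens) = ⊤ := by
  refine Subgroup.map_injective Subtype.val_injective (?_ : Subgroup.map grp.subtype _ = Subgroup.map grp.subtype _)
  rw [← MonoidHom.range_eq_map, Subgroup.range_subtype, MonoidHom.map_closure, Set.image_image]
  exact congrArg _ (Set.image_congr fun k hk => coe_φ hk)

end Cfsg.Agent.Lib.SporPres.JankoThree
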