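import Cfsg.Agent.Lib.SporPres.JankoThree.S6156Part0
import Cfsg.Agent.Lib.SporPres.JankoThree.S6156Part1
import Cfsg.Agent.Lib.SporPres.JankoThree.S6156Part2

/-! # Generated coset enumeration data: S6156 -/

set_option autoImplicit false

namespace Cfsg.Agent.Lib.SporPres.JankoThree.S6156

open Cfsg.Agent.Lib.Coset

variable {Γ : Type*} [Group Γ] {φ : ℕ → Γ} {K : Subgroup Γ}

theorem facts_hold (M : Cert.Model cert φ K) : ∀ j < cert.nfacts, cert.Holds φ K j := by
  have h : ∀ j < 0, cert.Holds φ K j := fun j hj => absurd hj (Nat.not_lt_zero j)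
  have h : ∀ j < 512, cert.Holds φ K j := fun j hj =>
    Cert.blockOK_spec M h proofsB0_ok j (by rw [proofsB0_len]; omega)
  have h : ∀ j < 1024, cert.Holds φ K j := fun j hj =>
    Cert.blockOK_spec M h proofsB512_ok j (by rw [proofsB512_len]; omega)
  have h : ∀ j < 1536, cert.Holds φ K j := fun j hj =>
    Cert.blockOK_spec M h proofsB1024_ok j (by rw [proofsB1024_len]; omega)
  have h : ∀ j < 2048, cert.Holds φ K j := fun j hj =>
    Cert.blockOK_spec M h proofsB1536_ok j (by rw [proofsB1536_len]; omega)
  have h : ∀ j < 2560, cert.Holds φ K j := fun j hj =>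
    Cert.blockOK_spec M h proofsB2048_ok j (by rw [proofsB2048_len]; omega)
  have h : ∀ j < 3072, cert.Holds φ K j := fun j hj =>
    Cert.blockOK_spec M h proofsB2560_ok j (by rw [proofsB2560_len]; omega)
  have h : ∀ j < 3584, cert.Holds φ K j := fun j hj =>
    Cert.blockOK_spec M h proofsB3072_ok j (by rw [proofsB3072_len]; omega)
  have h : ∀ j < 4096, cert.Holds φ K j := fun j hj =>
    Cert.blockOK_spec M h proofsB3584_ok j (by rw [proofsB3584_len]; omega)
  have h : ∀ j < 4608, cert.Holds φ K j := fun j hj =>
    Cert.blockOK_spec M h proofsB4096_ok j (by rw [proofsB4096_len]; omega)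
  have h : ∀ j < 5120, cert.Holds φ K j := fun j hj =>
    Cert.blockOK_spec M h proofsB4608_ok j (by rw [proofsB4608_len]; omega)
  have h : ∀ j < 5632, cert.Holds φ K j := fun j hj =>
    Cert.blockOK_spec M h proofsB5120_ok j (by rw [proofsB5120_len]; omega)
  have h : ∀ j < 6144, cert.Holds φ K j := fun j hj =>
    Cert.blockOK_spec M h proofsB5632_ok j (by rw [proofsB5632_len]; omega)
  have h : ∀ j < 6656, cert.Holds φ K j := fun j hj =>
    Cert.blockOK_spec M h proofsB6144_ok j (by rw [proofsB6144_len]; omega)
  have h : ∀ j < 7168, cert.Holds φ K j := fun j hj =>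
    Cert.blockOK_spec M h proofsB6656_ok j (by rw [proofsB6656_len]; omega)
  have h : ∀ j < 7680, cert.Holds φ K j := fun j hj =>
    Cert.blockOK_spec M h proofsB7168_ok j (by rw [proofsB7168_len]; omega)
  have h : ∀ j < 8192, cert.Holds φ K j := fun j hj =>
    Cert.blockOK_spec M h proofsB7680_ok j (by rw [proofsB7680_len]; omega)
  have h : ∀ j < 8704, cert.Holds φ K j := fun j hj =>
    Cert.blockOK_spec M h proofsB8192_ok j (by rw [proofsB8192_len]; omega)
  have h : ∀ j < 9216, cert.Holds φ K j := fun j hj =>
    Cert.blockOK_spec M h proofsB8704_ok j (by rw [proofsB8704_len]; omega)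
  have h : ∀ j < 9728, cert.Holds φ K j := fun j hj =>
    Cert.blockOK_spec M h proofsB9216_ok j (by rw [proofsB9216_len]; omega)
  have h : ∀ j < 10240, cert.Holds φ K j := fun j hj =>
    Cert.blockOK_spec M h proofsB9728_ok j (by rw [proofsB9728_len]; omega)
  have h : ∀ j < 10752, cert.Holds φ K j := fun j hj =>
    Cert.blockOK_spec M h proofsB10240_ok j (by rw [proofsB10240_len]; omega)
  have h : ∀ j < 11264, cert.Holds φ K j := fun j hj =>
    Cert.blockOK_spec M h proofsB10752_ok j (by rw [proofsB10752_len]; omega)
  have h : ∀ j < 11776, cert.Holds φ K j := fun j hj =>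
    Cert.blockOK_spec M h proofsB11264_ok j (by rw [proofsB11264_len]; omega)
  have h : ∀ j < 12288, cert.Holds φ K j := fun j hj =>
    Cert.blockOK_spec M h proofsB11776_ok j (by rw [proofsB11776_len]; omega)
  have h : ∀ j < 12464, cert.Holds φ K j := fun j hj =>
    Cert.blockOK_spec M h proofsB12288_ok j (by rw [proofsB12288_len]; omega)
  exact h

theorem edges_hold (M : Cert.Model cert φ K) :
    ∀ e < 24624, cert.EdgeHolds φ K tab ord (e / tab.gens) (e % tab.gens) := by
  intro e he
  by_cases h0 : e < 512
  · exact Cert.edgesOK_spec M (facts_hold M) proofsE0_ok e (by omega) (by rw [proofsE0_len]; omega)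
  by_cases h512 : e < 1024
  · exact Cert.edgesOK_spec M (facts_hold M) proofsE512_ok e (by omega) (by rw [proofsE512_len]; omega)
  by_cases h1024 : e < 1536
  · exact Cert.edgesOK_spec M (facts_hold M) proofsE1024_ok e (by omega) (by rw [proofsE1024_len]; omega)
  by_cases h1536 : e < 2048
  · exact Cert.edgesOK_spec M (facts_hold M) proofsE1536_ok e (by omega) (by rw [proofsE1536_len]; omega)
  by_cases h2048 : e < 2560
  · exact Cert.edgesOK_spec M (facts_hold M) proofsE2048_ok e (by omega) (by rw [proofsE2048_len]; omega)
  by_cases h2560 : e < 3072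
  · exact Cert.edgesOK_spec M (facts_hold M) proofsE2560_ok e (by omega) (by rw [proofsE2560_len]; omega)
  by_cases h3072 : e < 3584
  · exact Cert.edgesOK_spec M (facts_hold M) proofsE3072_ok e (by omega) (by rw [proofsE3072_len]; omega)
  by_cases h3584 : e < 4096
  · exact Cert.edgesOK_spec M (facts_hold M) proofsE3584_ok e (by omega) (by rw [proofsE3584_len]; omega)
  by_cases h4096 : e < 4608
  · exact Cert.edgesOK_spec M (facts_hold M) proofsE4096_ok e (by omega) (by rw [proofsE4096_len]; omega)
  by_cases h4608 : e < 5120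
  · exact Cert.edgesOK_spec M (facts_hold M) proofsE4608_ok e (by omega) (by rw [proofsE4608_len]; omega)
  by_cases h5120 : e < 5632
  · exact Cert.edgesOK_spec M (facts_hold M) proofsE5120_ok e (by omega) (by rw [proofsE5120_len]; omega)
  by_cases h5632 : e < 6144
  · exact Cert.edgesOK_spec M (facts_hold M) proofsE5632_ok e (by omega) (by rw [proofsE5632_len]; omega)
  by_cases h6144 : e < 6656
  · exact Cert.edgesOK_spec M (facts_hold M) proofsE6144_ok e (by omega) (by rw [proofsE6144_len]; omega)
  by_cases h6656 : e < 7168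
  · exact Cert.edgesOK_spec M (facts_hold M) proofsE6656_ok e (by omega) (by rw [proofsE6656_len]; omega)
  by_cases h7168 : e < 7680
  · exact Cert.edgesOK_spec M (facts_hold M) proofsE7168_ok e (by omega) (by rw [proofsE7168_len]; omega)
  by_cases h7680 : e < 8192
  · exact Cert.edgesOK_spec M (facts_hold M) proofsE7680_ok e (by omega) (by rw [proofsE7680_len]; omega)
  by_cases h8192 : e < 8704
  · exact Cert.edgesOK_spec M (facts_hold M) proofsE8192_ok e (by omega) (by rw [proofsE8192_len]; omega)
  by_cases h8704 : e < 9216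
  · exact Cert.edgesOK_spec M (facts_hold M) proofsE8704_ok e (by omega) (by rw [proofsE8704_len]; omega)
  by_cases h9216 : e < 9728
  · exact Cert.edgesOK_spec M (facts_hold M) proofsE9216_ok e (by omega) (by rw [proofsE9216_len]; omega)
  by_cases h9728 : e < 10240
  · exact Cert.edgesOK_spec M (facts_hold M) proofsE9728_ok e (by omega) (by rw [proofsE9728_len]; omega)
  by_cases h10240 : e < 10752
  · exact Cert.edgesOK_spec M (facts_hold M) proofsE10240_ok e (by omega) (by rw [proofsE10240_len]; omega)
  by_cases h10752 : e < 11264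
  · exact Cert.edgesOK_spec M (facts_hold M) proofsE10752_ok e (by omega) (by rw [proofsE10752_len]; omega)
  by_cases h11264 : e < 11776
  · exact Cert.edgesOK_spec M (facts_hold M) proofsE11264_ok e (by omega) (by rw [proofsE11264_len]; omega)
  by_cases h11776 : e < 12288
  · exact Cert.edgesOK_spec M (facts_hold M) proofsE11776_ok e (by omega) (by rw [proofsE11776_len]; omega)
  by_cases h12288 : e < 12800
  · exact Cert.edgesOK_spec M (facts_hold M) proofsE12288_ok e (by omega) (by rw [proofsE12288_len]; omega)
  by_cases h12800 : e < 13312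
  · exact Cert.edgesOK_spec M (facts_hold M) proofsE12800_ok e (by omega) (by rw [proofsE12800_len]; omega)
  by_cases h13312 : e < 13824
  · exact Cert.edgesOK_spec M (facts_hold M) proofsE13312_ok e (by omega) (by rw [proofsE13312_len]; omega)
  by_cases h13824 : e < 14336
  · exact Cert.edgesOK_spec M (facts_hold M) proofsE13824_ok e (by omega) (by rw [proofsE13824_len]; omega)
  by_cases h14336 : e < 14848
  · exact Cert.edgesOK_spec M (facts_hold M) proofsE14336_ok e (by omega) (by rw [proofsE14336_len]; omega)
  by_cases h14848 : e < 15360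
  · exact Cert.edgesOK_spec M (facts_hold M) proofsE14848_ok e (by omega) (by rw [proofsE14848_len]; omega)
  by_cases h15360 : e < 15872
  · exact Cert.edgesOK_spec M (facts_hold M) proofsE15360_ok e (by omega) (by rw [proofsE15360_len]; omega)
  by_cases h15872 : e < 16384
  · exact Cert.edgesOK_spec M (facts_hold M) proofsE15872_ok e (by omega) (by rw [proofsE15872_len]; omega)
  by_cases h16384 : e < 16896
  · exact Cert.edgesOK_spec M (facts_hold M) proofsE16384_ok e (by omega) (by rw [proofsE16384_len]; omega)
  by_cases h16896 : e < 17408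
  · exact Cert.edgesOK_spec M (facts_hold M) proofsE16896_ok e (by omega) (by rw [proofsE16896_len]; omega)
  by_cases h17408 : e < 17920
  · exact Cert.edgesOK_spec M (facts_hold M) proofsE17408_ok e (by omega) (by rw [proofsE17408_len]; omega)
  by_cases h17920 : e < 18432
  · exact Cert.edgesOK_spec M (facts_hold M) proofsE17920_ok e (by omega) (by rw [proofsE17920_len]; omega)
  by_cases h18432 : e < 18944
  · exact Cert.edgesOK_spec M (facts_hold M) proofsE18432_ok e (by omega) (by rw [proofsE18432_len]; omega)
  by_cases h18944 : e < 19456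
  · exact Cert.edgesOK_spec M (facts_hold M) proofsE18944_ok e (by omega) (by rw [proofsE18944_len]; omega)
  by_cases h19456 : e < 19968
  · exact Cert.edgesOK_spec M (facts_hold M) proofsE19456_ok e (by omega) (by rw [proofsE19456_len]; omega)
  by_cases h19968 : e < 20480
  · exact Cert.edgesOK_spec M (facts_hold M) proofsE19968_ok e (by omega) (by rw [proofsE19968_len]; omega)
  by_cases h20480 : e < 20992
  · exact Cert.edgesOK_spec M (facts_hold M) proofsE20480_ok e (by omega) (by rw [proofsE20480_len]; omega)
  by_cases h20992 : e < 21504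
  · exact Cert.edgesOK_spec M (facts_hold M) proofsE20992_ok e (by omega) (by rw [proofsE20992_len]; omega)
  by_cases h21504 : e < 22016
  · exact Cert.edgesOK_spec M (facts_hold M) proofsE21504_ok e (by omega) (by rw [proofsE21504_len]; omega)
  by_cases h22016 : e < 22528
  · exact Cert.edgesOK_spec M (facts_hold M) proofsE22016_ok e (by omega) (by rw [proofsE22016_len]; omega)
  by_cases h22528 : e < 23040
  · exact Cert.edgesOK_spec M (facts_hold M) proofsE22528_ok e (by omega) (by rw [proofsE22528_len]; omega)
  by_cases h23040 : e < 23552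
  · exact Cert.edgesOK_spec M (facts_hold M) proofsE23040_ok e (by omega) (by rw [proofsE23040_len]; omega)
  by_cases h23552 : e < 24064
  · exact Cert.edgesOK_spec M (facts_hold M) proofsE23552_ok e (by omega) (by rw [proofsE23552_len]; omega)
  by_cases h24064 : e < 24576
  · exact Cert.edgesOK_spec M (facts_hold M) proofsE24064_ok e (by omega) (by rw [proofsE24064_len]; omega)
  exact Cert.edgesOK_spec M (facts_hold M) proofsE24576_ok e (by omega) (by rw [proofsE24576_len]; omega)

/-- Every element is in one of the cosets. -/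
theorem covers (M : Cert.Model cert φ K) : ∀ x ∈ Subgroup.closure (φ '' Set.Iio 4),
    ∃ i < 6156, x * (cert.pt φ (nodeOf ord i))⁻¹ ∈ K :=
  Cert.cover (P := tab) (ord := ord) M.inv rfl (by decide +kernel) (by decide +kernel)
    (fun e he => edges_hold M e he)

end Cfsg.Agent.Lib.SporPres.JankoThree.S6156
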