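import Cfsg.Prelude.Def_Sporadic
import Cfsg.Agent.Lib.SporPres.JankoThree.Pres
import Cfsg.Agent.Lib.SporPres.JankoThree.S12
import Cfsg.Agent.Lib.SporPres.JankoThree.S680
import Cfsg.Agent.Lib.SporPres.JankoThree.S6156
import Cfsg.Agent.Lib.SporPres.JankoThree.Orbits

/-! # A simple group of order 50232960 on 6156 points -/

set_option autoImplicit false

namespace Cfsg.Agent.Lib.SporPres.JankoThree

open Cfsg.Agent.Lib.Coset

/-- The subgroup generated by the first `k` generators. -/
abbrev sub (k : ℕ) : Subgroup grp := Subgroup.closure (φ '' Set.Iio k)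

theorem model {C : Cert} {k : ℕ} (hr : C.rels.all (isRot base) = true)
    (hs : lettersBelow k C.subs = true) : Cert.Model C φ (sub k) :=
  model_of φ_inv base_eq_one hr (mem_closure_letters hs)

theorem m12 : Cert.Model S12.cert φ (sub 0) := model (by decide +kernel) (by decide +kernel)
theorem m680 : Cert.Model S680.cert φ (sub 2) := model (by decide +kernel) (by decide +kernel)
theorem m6156 : Cert.Model S6156.cert φ (sub 3) := model (by decide +kernel) (by decide +kernel)

theorem sub_three : (sub 3 : Set grp).Finite ∧ Nat.card (sub 3) ≤ 8160 := by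
  have h2 := card_step (card_bot φ) (S12.covers m12)
  exact card_step h2 (S680.covers m680)

theorem group_le : Finite grp ∧ Nat.card grp ≤ 50232960 := by
  have h := (card_step sub_three (S6156.covers m6156)).2
  rw [show Subgroup.closure (φ '' Set.Iio 4) = ⊤ from gen, Subgroup.card_top] at h
  exact ⟨inferInstance, h⟩

/-- The words of the subgroup. -/
def subWords : List (List ℕ) := [[0], [1], [2]]

theorem sub_eq : sub 3 = wordSub φ subWords :=
  le_antisymm (closure_letters_le φ (by decide +kernel)) (wordSub_le_closure φ (by decide +kernel))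

theorem pos : 0 < tab.size := by decide +kernel

/-- The representation. -/
noncomputable def rep : Rep grp tab :=
  mkRep tab S6156.cert S6156.ord φ (sub 3) act good act_φ pos gen (by decide +kernel)
    (fun e he => S6156.edges_hold m6156 e he) (S6156.covers m6156) (by decide +kernel)
    (fix_of act_φ pos (by decide +kernel) (by decide +kernel) sub_eq.le)

theorem chain_ok : tab.chainOK chain = true := by decide +kernel

theorem chain_letters : (chain.all fun l => lettersBelow tab.gens l.2.1) = true := by decide +kernel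

theorem range_ge : 50232960 ≤ Nat.card act.range := by
  have h : Tab.chainCard chain = 50232960 := by decide +kernel
  rw [← h]
  refine tab.chain_spec good chain_ok fun l hl w hw => ⟨ev φ w, ?_⟩
  have hlt := List.all_eq_true.1 chain_letters l hl
  simp only [lettersBelow, List.all_eq_true, decide_eq_true_eq] at hlt
  rw [ev_comp, ev, ev, List.map_congr_left (f := ⇑act ∘ φ) (g := tab.perm good) fun a ha =>
    act_φ a (hlt w hw a ha)]

theorem card_eq : Nat.card grp = 50232960 :=
  (rep.order group_le.1 group_le.2 range_ge).1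

theorem index_three : (sub 3).index = 6156 := rep.index_eq

theorem card_three : Nat.card (sub 3) = 8160 := by
  have h := Subgroup.index_mul_card (sub 3)
  rw [index_three, card_eq] at h
  omega

theorem orbit_ok : (orbs.all fun o => tab.orbitOK subWords o.1 o.2 && tab.closedOK subWords o.1 o.2) =
    true := by decide +kernel

theorem orbits (o : ℕ × List Tab.Step) (ho : o ∈ orbs) (hb : o.1 < tab.size) :
    (MulAction.orbit ((sub 3).map act) (⟨o.1, hb⟩ : Fin tab.size)).ncard = o.2.length + 1 ∧
      ∀ x : Fin tab.size, x ∈ MulAction.orbit ((sub 3).map act) (⟨o.1, hb⟩ : Fin tab.size) ↔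
        (x : ℕ) ∈ Tab.pts o.1 o.2 := by
  have h := List.all_eq_true.1 orbit_ok o ho
  rw [Bool.and_eq_true] at h
  exact Tab.orbit_eq good h.1 h.2
    (by rw [sub_eq, map_wordSub act φ (tab.perm good) act_φ (by decide +kernel)]) hb

theorem word_fix : ∀ i < tab.size, ∀ w ∈ [Coset.rep 19 xWord, Coset.rep 19 xWordA,
    gWord.reverse ++ (zWord ++ (gWord ++ [3])), gWordA.reverse ++ (zWordA ++ (gWordA ++ [0]))],
    tab.app w i = i :=
  Tab.relOK_spec (B := 171) (by norm_num) fun k hk => by
    have hk' : k < 36 := by have := size_eq; omega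
    interval_cases k <;> decide +kernel

theorem word_lt : ([Coset.rep 19 xWord, Coset.rep 19 xWordA,
    gWord.reverse ++ (zWord ++ (gWord ++ [3])), gWordA.reverse ++ (zWordA ++ (gWordA ++ [0]))].all
      fun w => w.all fun g => decide (g < tab.gens)) = true := by decide +kernel

theorem word_one {w : List ℕ} (hw : w ∈ [Coset.rep 19 xWord, Coset.rep 19 xWordA,
    gWord.reverse ++ (zWord ++ (gWord ++ [3])), gWordA.reverse ++ (zWordA ++ (gWordA ++ [0]))]) :
    ev φ w = 1 :=
  ev_eq_one_of_fix act_φ act_injective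
    (fun g hg => decide_eq_true_eq.mp (List.all_eq_true.1 (List.all_eq_true.1 word_lt w hw) g hg))
    fun i hi => word_fix i hi w hw

theorem isJ3 : Cfsg.IsJ3 grp := by
  refine ⟨?_, card_eq⟩
  have hnt : Nontrivial grp := by
    rw [← Finite.one_lt_card_iff_nontrivial, card_eq]
    norm_num
  refine ⟨fun N hN => or_iff_not_imp_left.2 fun hne => ?_⟩
  have hsup := rep.sup_eq_top act_injective (orbs := orbs) (by decide +kernel) orbits N hne
  have hco : Nat.Coprime 19 (Nat.card rep.K) := by
    show Nat.Coprime 19 (Nat.card (sub 3))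
    rw [card_three]; norm_num
  have hx : ev φ xWord ∈ N := rep.mem_of_coprime hsup (by rw [← ev_rep]; exact word_one (by simp)) hco
  have hxA : ev φ xWordA ∈ N := rep.mem_of_coprime hsup (by rw [← ev_rep]; exact word_one (by simp)) hco
  have hd : φ 3 ∈ N := gen_mem φ_inv (z := zWord) (g := gWord) (witWord_mem φ_inv hx) (word_one (by simp))
  have ha : φ 0 ∈ N := gen_mem φ_inv (z := zWordA) (g := gWordA) (witWord_mem φ_inv hxA) (word_one (by simp))
  have cox : ∀ i j m, List.elem (Coset.rep m [i, j]) base = true →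
      (φ i * φ j) ^ m = 1 := fun i j m h => by
    have := base_eq_one _ (List.elem_iff.1 h)
    rwa [ev_rep, ev_cons, ev_cons, ev_nil, mul_one] at this
  have hb : φ 1 ∈ N := by
    have h5 : (φ 3 * φ 1) ^ 5 = 1 := by
      have h := cox 1 3 5 (by decide +kernel)
      have e : φ 3 * φ 1 = (φ 1 * φ 3)⁻¹ := by
        rw [mul_inv_rev, inv_eq_of_mul_eq_one_right (φ_inv 1), inv_eq_of_mul_eq_one_right (φ_inv 3)]
      rw [e, inv_pow, h, inv_one]
    exact mem_of_odd (φ_inv 1) (by decide) h5 hd
  have hc : φ 2 ∈ N := by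
    have h3 : (φ 3 * φ 2) ^ 3 = 1 := by
      have h := cox 2 3 3 (by decide +kernel)
      have e : φ 3 * φ 2 = (φ 2 * φ 3)⁻¹ := by
        rw [mul_inv_rev, inv_eq_of_mul_eq_one_right (φ_inv 2), inv_eq_of_mul_eq_one_right (φ_inv 3)]
      rw [e, inv_pow, h, inv_one]
    exact mem_of_odd (φ_inv 2) (by decide) h3 hd
  rw [eq_top_iff, ← gen]
  refine (Subgroup.closure_le _).2 ?_
  rintro _ ⟨k, hk, rfl⟩
  rw [Set.mem_Iio] at hk
  have hk4 : k < 4 := hk
  interval_cases k <;> assumption

theorem witness : ∃ H : Subgroup (Equiv.Perm (Fin 6156)), Cfsg.IsJ3 H ∧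
    MulAction.IsPretransitive H (Fin 6156) ∧
      Nat.card (MulAction.stabilizer H (0 : Fin 6156)) = 8160 := by
  have ht : MulAction.IsPretransitive grp (Fin tab.size) := ⟨fun x y => by
    obtain ⟨g, hg⟩ := rep.transitive x
    obtain ⟨h, hh⟩ := rep.transitive y
    refine ⟨h * g⁻¹, ?_⟩
    show act (h * g⁻¹) x = y
    rw [map_mul, map_inv, Equiv.Perm.mul_apply, ← hg, Equiv.Perm.inv_def]
    exact (congrArg _ (Equiv.symm_apply_apply _ _)).trans hh⟩
  have hs : MulAction.stabilizer grp (⟨0, pos⟩ : Fin tab.size) = sub 3 :=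
    Subgroup.ext fun x => (rep.mem_iff x).symm
  exact ⟨grp, isJ3, ht, (congrArg (fun K : Subgroup grp => Nat.card K) hs).trans card_three⟩

end Cfsg.Agent.Lib.SporPres.JankoThree
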